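import Mathlib.GroupTheory.GroupAction.Quotient
import Mathlib.GroupTheory.QuotientGroup.Finite
import Mathlib.GroupTheory.Index
import Mathlib.GroupTheory.OrderOfElement
import Mathlib.Algebra.BigOperators.Ring.Finset
import Mathlib.Tactic

/-!
# Large abelian subgroups from large abelian subgroups of centralizers

The group-theoretic core of the theorem of Brauer and Feit: a finite group in which the
centralizers of noncentral elements have abelian subgroups of bounded index of the prescribed
kind, with a bound on chains of centralizers and on automizers of such abelian subgroups, has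
an abelian subgroup of bounded index.  The proof counts elements by the equivalence classes
of "good" abelian subgroups under commutation.
-/

set_option autoImplicit false

namespace CfsgLib.Char.BrauerFeit

open MulAction

universe u

variable {G : Type u} [Group G]

/-- The abelian subgroups the core works with: commutative, of elements of order prime to `p`. -/
def PAb (p : ℕ) (A : Subgroup G) : Prop :=
  (∀ a ∈ A, ∀ b ∈ A, a * b = b * a) ∧ ∀ a ∈ A, ¬ p ∣ orderOf a

/-- The hypotheses of the core. -/
structure Setup (p : ℕ) (G : Type u) [Group G] (c d R T : ℕ) : Prop where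
  cpos : 0 < c
  cent : ∀ y : G, y ∉ Subgroup.center G →
    ∃ N : Subgroup G, N ≤ Subgroup.centralizer {y} ∧ PAb p N ∧ N.relIndex (Subgroup.centralizer {y}) ≤ c
  chain : ∃ dim : Subgroup G → ℕ, (∀ B, dim B ≤ d) ∧ ∀ B₀ B : Subgroup G, B₀ ≤ B →
    Subgroup.centralizer (B₀ : Set G) ≠ Subgroup.centralizer (B : Set G) → dim B < dim B₀
  autom : ∀ U : Subgroup G, PAb p U →
    (Subgroup.centralizer (U : Set G)).relIndex (Subgroup.normalizer (U : Set G)) ≤ R
  shift : ∀ y : G, Nat.card {z : Subgroup.center G // IsConj y (y * z)} ≤ T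

/-- A good subgroup: its centralizer is that of each of its subgroups of index at most `c`. -/
def Good (p c : ℕ) (A : Subgroup G) : Prop :=
  PAb p A ∧ ¬ A ≤ Subgroup.center G ∧ ∀ A₀ : Subgroup G, A₀ ≤ A → A₀.relIndex A ≤ c →
    Subgroup.centralizer (A₀ : Set G) = Subgroup.centralizer (A : Set G)

/-- The centralizer of the good subgroups commuting with `A`. -/
def clsCent (p c : ℕ) (A : Subgroup G) : Subgroup G :=
  Subgroup.centralizer {x : G | ∃ B : Subgroup G, Good p c B ∧ B ≤ Subgroup.centralizer (A : Set G) ∧ x ∈ B}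

/-- The elements attached to a class. -/
def att (p c : ℕ) (K : Subgroup G) : Set G :=
  {y | y ∉ Subgroup.center G ∧ ∃ A : Subgroup G, Good p c A ∧ A ≤ Subgroup.centralizer {y} ∧ clsCent p c A = K}

theorem le_centralizer_comm {A B : Subgroup G} (h : A ≤ Subgroup.centralizer (B : Set G)) :
    B ≤ Subgroup.centralizer (A : Set G) := fun b hb =>
  Subgroup.mem_centralizer_iff.mpr fun a ha => ((Subgroup.mem_centralizer_iff.mp (h ha)) b hb).symm

theorem le_centralizer_of_comm {A : Subgroup G} (h : ∀ a ∈ A, ∀ b ∈ A, a * b = b * a) :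
    A ≤ Subgroup.centralizer (A : Set G) := fun a ha =>
  Subgroup.mem_centralizer_iff.mpr fun b hb => h b hb a ha

theorem pAb_mono {p : ℕ} {A B : Subgroup G} (h : B ≤ A) (hA : PAb p A) : PAb p B :=
  ⟨fun a ha b hb => hA.1 a (h ha) b (h hb), fun a ha => hA.2 a (h ha)⟩

/-- The sum of an invariant weight, orbit by orbit. -/
theorem dvd_mul_sum {X : Type*} [Fintype X] [MulAction G X] [Finite G] (f : X → ℕ)
    (hf : ∀ (g : G) (x : X), f (g • x) = f x) (D : ℕ) (h : ∀ x, Nat.card (stabilizer G x) ∣ D * f x) :
    Nat.card G ∣ D * ∑ x, f x := by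
  classical
  rw [← Finset.sum_fiberwise_of_maps_to (g := fun x => Quotient.mk (orbitRel G X) x)
    (t := Finset.univ) (fun _ _ => Finset.mem_univ _) f, Finset.mul_sum]
  refine Finset.dvd_sum fun ω _ => ?_
  obtain ⟨x, rfl⟩ := Quotient.mk_surjective ω
  have hmem : ∀ y, y ∈ Finset.univ.filter
      (fun y => Quotient.mk (orbitRel G X) y = Quotient.mk (orbitRel G X) x) ↔ y ∈ orbit G x := fun y => by
    rw [Finset.mem_filter, Quotient.eq, orbitRel_apply]
    simp
  rw [Finset.sum_congr rfl fun y hy => show f y = f x by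
    obtain ⟨g, rfl⟩ := (hmem y).mp hy; exact hf g x, Finset.sum_const, smul_eq_mul]
  have hc : (Finset.univ.filter
      (fun y => Quotient.mk (orbitRel G X) y = Quotient.mk (orbitRel G X) x)).card = (stabilizer G x).index := by
    rw [index_stabilizer, ← Nat.card_coe_set_eq, ← Nat.card_eq_finsetCard]
    exact Nat.card_congr (Equiv.subtypeEquivRight hmem)
  rw [hc, ← mul_assoc, mul_comm D, mul_assoc, ← (stabilizer G x).index_mul_card]
  exact Nat.mul_dvd_mul_left _ (h x)

/-- The data bounding one counting step. -/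
def stepDen (c d R T L : ℕ) : ℕ :=
  ((c ^ (d + 1) + R * L) * T).factorial * R.factorial

/-- The thresholds. -/
def level (c d R T : ℕ) : ℕ → ℕ
  | 0 => 0
  | i + 1 => level c d R T i + stepDen c d R T (level c d R T i) + 1

/-- The final bound. -/
def bound (c d R T : ℕ) : ℕ :=
  c * R + ∑ i ∈ Finset.range (2 * R + 2), stepDen c d R T (level c d R T i) + 1

namespace Setup

variable {p c d R T : ℕ}

/-- Good subgroups centralizing one noncentral element commute. -/
theorem comm_of_le [Finite G] (hs : Setup p G c d R T) {A B : Subgroup G} (hA : Good p c A) (hB : Good p c B)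
    {y : G} (hy : y ∉ Subgroup.center G) (hAy : A ≤ Subgroup.centralizer {y})
    (hBy : B ≤ Subgroup.centralizer {y}) : A ≤ Subgroup.centralizer (B : Set G) := by
  obtain ⟨N, hN, hNab, hNc⟩ := hs.cent y hy
  have hidx : ∀ X : Subgroup G, X ≤ Subgroup.centralizer {y} → (X ⊓ N).relIndex X ≤ c := fun X hX => by
    rw [inf_comm, Subgroup.inf_relIndex_right]
    exact (Subgroup.relIndex_le_of_le_right hX (Subgroup.index_ne_zero_of_finite
      (H := N.subgroupOf (Subgroup.centralizer {y})))).trans hNc
  have h1 : B ⊓ N ≤ Subgroup.centralizer (A : Set G) := by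
    rw [← hA.2.2 (A ⊓ N) inf_le_left (hidx A hAy)]
    exact fun b hb => Subgroup.mem_centralizer_iff.mpr fun a ha => hNab.1 a ha.2 b hb.2
  have h2 : A ≤ Subgroup.centralizer ((B ⊓ N : Subgroup G) : Set G) := le_centralizer_comm h1
  rwa [hB.2.2 (B ⊓ N) inf_le_left (hidx B hBy)] at h2

theorem exists_noncentral {A : Subgroup G} (hA : Good p c A) : ∃ a ∈ A, a ∉ Subgroup.center G := by
  by_contra h
  push Not at h
  exact hA.2.1 h

theorem le_centralizer_singleton {A : Subgroup G} {a : G} (h : A ≤ Subgroup.centralizer (A : Set G))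
    (ha : a ∈ A) : A ≤ Subgroup.centralizer {a} :=
  h.trans (Subgroup.centralizer_le (Set.singleton_subset_iff.mpr ha))

theorem comm_trans [Finite G] (hs : Setup p G c d R T) {A B C : Subgroup G} (hA : Good p c A)
    (hB : Good p c B) (hC : Good p c C) (h1 : A ≤ Subgroup.centralizer (B : Set G))
    (h2 : C ≤ Subgroup.centralizer (B : Set G)) : A ≤ Subgroup.centralizer (C : Set G) := by
  obtain ⟨b, hb, hbz⟩ := exists_noncentral hB
  exact hs.comm_of_le hA hC hbz (h1.trans (Subgroup.centralizer_le (Set.singleton_subset_iff.mpr hb)))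
    (h2.trans (Subgroup.centralizer_le (Set.singleton_subset_iff.mpr hb)))

theorem le_clsCent [Finite G] (hs : Setup p G c d R T) {A : Subgroup G} (hA : Good p c A) :
    A ≤ clsCent p c A := fun a ha => Subgroup.mem_centralizer_iff.mpr fun x hx => by
  obtain ⟨B, hB, hBA, hxB⟩ := hx
  exact (Subgroup.mem_centralizer_iff.mp (hBA hxB) a ha).symm

theorem clsCent_eq [Finite G] (hs : Setup p G c d R T) {A B : Subgroup G} (hA : Good p c A) (hB : Good p c B)
    (h : A ≤ Subgroup.centralizer (B : Set G)) : clsCent p c A = clsCent p c B := by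
  have h' := le_centralizer_comm h
  unfold clsCent
  congr 1
  ext x
  constructor
  · rintro ⟨C, hC, hCA, hx⟩
    exact ⟨C, hC, hs.comm_trans hC hA hB hCA h', hx⟩
  · rintro ⟨C, hC, hCB, hx⟩
    exact ⟨C, hC, hs.comm_trans hC hB hA hCB h, hx⟩

theorem comm_of_clsCent_eq [Finite G] (hs : Setup p G c d R T) {A B : Subgroup G} (hA : Good p c A)
    (hB : Good p c B) (h : clsCent p c A = clsCent p c B) : A ≤ Subgroup.centralizer (B : Set G) := by
  intro a ha
  rw [Subgroup.mem_centralizer_iff]
  intro b hb
  have ha' : a ∈ clsCent p c B := h ▸ hs.le_clsCent hA ha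
  exact Subgroup.mem_centralizer_iff.mp ha' b ⟨B, hB, le_centralizer_of_comm hB.1.1, hb⟩

theorem att_unique [Finite G] (hs : Setup p G c d R T) {K K' : Subgroup G} {y : G} (h : y ∈ att p c K)
    (h' : y ∈ att p c K') : K = K' := by
  obtain ⟨hy, A, hA, hAy, rfl⟩ := h
  obtain ⟨-, B, hB, hBy, rfl⟩ := h'
  exact hs.clsCent_eq hA hB (hs.comm_of_le hA hB hy hAy hBy)

theorem center_le_clsCent (A : Subgroup G) : Subgroup.center G ≤ clsCent p c A :=
  Subgroup.center_le_centralizer _

/-- A good subgroup inside a large abelian subgroup. -/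
theorem exists_good [Finite G] (hs : Setup p G c d R T) {B : Subgroup G} (hB : PAb p B)
    (h : c ^ d * Nat.card (Subgroup.center G) < Nat.card B) :
    ∃ A ≤ B, Good p c A := by
  obtain ⟨dim, hdim, hstrict⟩ := hs.chain
  suffices key : ∀ (k : ℕ) (B : Subgroup G), PAb p B → d - dim B ≤ k →
      c ^ k * Nat.card (Subgroup.center G) < Nat.card B → ∃ A ≤ B, Good p c A from
    key d B hB (Nat.sub_le _ _) h
  intro k
  induction k using Nat.strong_induction_on with
  | _ k ih =>
    intro B hB hk hcard
    have hnz : ¬ B ≤ Subgroup.center G := fun hle =>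
      (Subgroup.card_le_of_le hle).not_gt
        (lt_of_le_of_lt (Nat.le_mul_of_pos_left _ (Nat.pow_pos hs.cpos)) hcard)
    by_cases hg : Good p c B
    · exact ⟨B, le_rfl, hg⟩
    simp only [Good, not_and, not_forall] at hg
    obtain ⟨B₀, hle, hidx, hne⟩ := hg hB hnz
    have hd := hstrict B₀ B hle hne
    have hdb := hdim B₀
    have hk1 : k - 1 < k := by omega
    have hcard' : Nat.card B ≤ c * Nat.card B₀ := by
      rw [← Subgroup.relIndex_bot_left B, ← Subgroup.relIndex_bot_left B₀,
        ← Subgroup.relIndex_mul_relIndex ⊥ B₀ B bot_le hle, mul_comm]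
      exact Nat.mul_le_mul_right _ hidx
    obtain ⟨A, hA, hgA⟩ := ih (k - 1) hk1 B₀ (pAb_mono hle hB) (by omega) (by
      have h1 : c ^ k = c * c ^ (k - 1) := by rw [← pow_succ']; congr 1; omega
      rw [h1, mul_assoc] at hcard
      exact Nat.lt_of_mul_lt_mul_left (hcard.trans_le hcard'))
    exact ⟨A, hA.trans hle, hgA⟩

end Setup

end CfsgLib.Char.BrauerFeit
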