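import Cfsg.Agent.Lib.Char.BrauerFeit.Core

/-!
# Counting elements by classes of good abelian subgroups
-/

set_option autoImplicit false
set_option linter.unusedSectionVars false

namespace CfsgLib.Char.BrauerFeit

open MulAction

universe u

variable {G : Type u} [Group G] {p c d R T : ℕ}

/-- Images of centralizers under automorphisms. -/
theorem map_centralizer (φ : G ≃* G) (S : Set G) :
    (Subgroup.centralizer S).map φ.toMonoidHom = Subgroup.centralizer (φ '' S) := by
  ext x
  simp only [Subgroup.mem_map, Subgroup.mem_centralizer_iff, Set.forall_mem_image, MulEquiv.coe_toMonoidHom]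
  constructor
  · rintro ⟨y, hy, rfl⟩ s hs
    rw [← map_mul, ← map_mul, hy s hs]
  · intro h
    refine ⟨φ.symm x, fun s hs => φ.injective ?_, φ.apply_symm_apply x⟩
    simp only [map_mul, φ.apply_symm_apply]
    exact h hs

theorem good_map (φ : G ≃* G) {A : Subgroup G} (hA : Good p c A) : Good p c (A.map φ.toMonoidHom) := by
  obtain ⟨⟨hab, hord⟩, hnz, hsub⟩ := hA
  refine ⟨⟨?_, ?_⟩, fun h => hnz fun a ha => ?_, fun A₀ hle hidx => ?_⟩
  · rintro _ ⟨a, ha, rfl⟩ _ ⟨b, hb, rfl⟩
    rw [← map_mul, ← map_mul, hab a ha b hb]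
  · rintro _ ⟨a, ha, rfl⟩
    rw [MulEquiv.coe_toMonoidHom, MulEquiv.orderOf_eq]
    exact hord a ha
  · have h1 := h ⟨a, ha, rfl⟩
    rw [Subgroup.mem_center_iff] at h1 ⊢
    intro g
    apply φ.injective
    rw [map_mul, map_mul]
    exact h1 (φ g)
  · obtain ⟨B, rfl⟩ : ∃ B : Subgroup G, B.map φ.toMonoidHom = A₀ :=
      ⟨A₀.comap φ.toMonoidHom, Subgroup.map_comap_eq_self_of_surjective φ.surjective A₀⟩
    rw [Subgroup.map_le_map_iff_of_injective φ.injective] at hle
    rw [Subgroup.relIndex_map_map_of_injective _ _ φ.injective] at hidx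
    rw [Subgroup.coe_map, Subgroup.coe_map, MulEquiv.coe_toMonoidHom, ← map_centralizer φ,
      ← map_centralizer φ, hsub B hle hidx]

/-- The subgroups defining a class. -/
def clsSet (p c : ℕ) (A : Subgroup G) : Set G :=
  {x : G | ∃ B : Subgroup G, Good p c B ∧ B ≤ Subgroup.centralizer (A : Set G) ∧ x ∈ B}

theorem clsCent_map (φ : G ≃* G) (A : Subgroup G) :
    clsCent p c (A.map φ.toMonoidHom) = (clsCent p c A).map φ.toMonoidHom := by
  unfold clsCent
  rw [map_centralizer]
  congr 1
  ext x
  constructor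
  · rintro ⟨B, hB, hBA, hx⟩
    refine ⟨φ.symm x, ⟨B.map φ.symm.toMonoidHom, good_map φ.symm hB, ?_, x, hx, rfl⟩, φ.apply_symm_apply x⟩
    rintro _ ⟨b, hb, rfl⟩
    rw [Subgroup.mem_centralizer_iff]
    intro a ha
    apply φ.injective
    simp only [map_mul, MulEquiv.coe_toMonoidHom, φ.apply_symm_apply]
    exact Subgroup.mem_centralizer_iff.mp (hBA hb) (φ a) ⟨a, ha, rfl⟩
  · rintro ⟨y, ⟨B, hB, hBA, hy⟩, rfl⟩
    refine ⟨B.map φ.toMonoidHom, good_map φ hB, ?_, y, hy, rfl⟩
    rintro _ ⟨b, hb, rfl⟩
    rw [Subgroup.mem_centralizer_iff]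
    rintro _ ⟨a, ha, rfl⟩
    rw [← map_mul, ← map_mul, Subgroup.mem_centralizer_iff.mp (hBA hb) a ha]

theorem mem_att_map (φ : G ≃* G) {K : Subgroup G} {y : G} (h : y ∈ att p c K) :
    φ y ∈ att p c (K.map φ.toMonoidHom) := by
  obtain ⟨hy, A, hA, hAy, rfl⟩ := h
  refine ⟨fun hz => hy ?_, A.map φ.toMonoidHom, good_map φ hA, ?_, clsCent_map φ A⟩
  · rw [Subgroup.mem_center_iff] at hz ⊢
    exact fun g => φ.injective (by rw [map_mul, map_mul]; exact hz (φ g))
  · rintro _ ⟨a, ha, rfl⟩
    rw [Subgroup.mem_centralizer_singleton_iff, MulEquiv.coe_toMonoidHom, ← map_mul, ← map_mul,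
      Subgroup.mem_centralizer_singleton_iff.mp (hAy ha)]

theorem card_att_map (φ : G ≃* G) (K : Subgroup G) :
    Nat.card (att p c (K.map φ.toMonoidHom)) = Nat.card (att p c K) := by
  refine (Nat.card_congr
    { toFun := fun y => ⟨φ y.1, mem_att_map φ y.2⟩
      invFun := fun y => ⟨φ.symm y.1, by
        have h := mem_att_map φ.symm y.2
        rwa [Subgroup.map_map, show (φ.symm.toMonoidHom.comp φ.toMonoidHom) = MonoidHom.id G from
          MonoidHom.ext φ.symm_apply_apply, Subgroup.map_id] at h⟩
      left_inv := fun y => Subtype.ext (φ.symm_apply_apply _)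
      right_inv := fun y => Subtype.ext (φ.apply_symm_apply y.1) }).symm

/-- A class: the centralizer of a maximal family of commuting good subgroups. -/
def IsCls (p c : ℕ) (K : Subgroup G) : Prop := ∃ A : Subgroup G, Good p c A ∧ clsCent p c A = K

theorem isCls_map (φ : G ≃* G) {K : Subgroup G} (h : IsCls p c K) : IsCls p c (K.map φ.toMonoidHom) := by
  obtain ⟨A, hA, rfl⟩ := h
  exact ⟨_, good_map φ hA, clsCent_map φ A⟩

namespace Setup

theorem map_conj_eq_of_le {y : G} {A : Subgroup G} (h : A ≤ Subgroup.centralizer {y}) :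
    A.map (MulAut.conj y).toMonoidHom = A := by
  have e : ∀ a ∈ A, y * a * y⁻¹ = a := fun a ha => by
    rw [← Subgroup.mem_centralizer_singleton_iff.mp (h ha), mul_inv_cancel_right]
  ext x
  simp only [Subgroup.mem_map, MulEquiv.coe_toMonoidHom, MulAut.conj_apply]
  exact ⟨fun ⟨a, ha, hax⟩ => by rw [← hax, e a ha]; exact ha, fun hx => ⟨x, hx, e x hx⟩⟩

theorem att_le_normalizer {K : Subgroup G} {y : G} (h : y ∈ att p c K) :
    y ∈ Subgroup.normalizer (K : Set G) := by
  obtain ⟨-, A, -, hAy, rfl⟩ := h
  rw [Subgroup.mem_normalizer_iff_map_conj_eq]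
  exact (clsCent_map (MulAut.conj y) A).symm.trans (by rw [map_conj_eq_of_le hAy])

theorem att_union_mul [Finite G] {K : Subgroup G} (hK : IsCls p c K) {y k : G}
    (hy : y ∈ att p c K ∪ (Subgroup.center G : Set G)) (hk : k ∈ K) :
    y * k ∈ att p c K ∪ (Subgroup.center G : Set G) := by
  by_cases hz : y * k ∈ Subgroup.center G
  · exact Or.inr hz
  refine Or.inl ⟨hz, ?_⟩
  obtain ⟨A, hA, hAy, hAK⟩ : ∃ A : Subgroup G, Good p c A ∧ A ≤ Subgroup.centralizer {y} ∧ clsCent p c A = K := by
    rcases hy with ⟨-, h⟩ | h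
    · exact h
    · obtain ⟨A, hA, e⟩ := hK
      exact ⟨A, hA, fun a _ => Subgroup.mem_centralizer_singleton_iff.mpr (Subgroup.mem_center_iff.mp h a), e⟩
  refine ⟨A, hA, fun a ha => ?_, hAK⟩
  rw [Subgroup.mem_centralizer_singleton_iff]
  have h1 := Subgroup.mem_centralizer_singleton_iff.mp (hAy ha)
  have h2 : a * k = k * a := by
    rw [← hAK] at hk
    exact Subgroup.mem_centralizer_iff.mp hk a ⟨A, hA, le_centralizer_of_comm hA.1.1, ha⟩
  rw [← mul_assoc, h1, mul_assoc, h2, mul_assoc]

/-- A set invariant under right multiplication by `K` is a union of cosets. -/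
theorem card_dvd_of_mul [Finite G] (K : Subgroup G) (S : Set G) (h : ∀ y ∈ S, ∀ k ∈ K, y * k ∈ S) :
    Nat.card K ∣ Nat.card S := by
  have e : S = QuotientGroup.mk ⁻¹' ((QuotientGroup.mk : G → G ⧸ K) '' S) := by
    refine Set.Subset.antisymm (Set.subset_preimage_image _ _) ?_
    rintro y ⟨x, hx, hxy⟩
    have := h x hx _ (QuotientGroup.eq.mp hxy)
    rwa [mul_inv_cancel_left] at this
  rw [e, QuotientGroup.card_preimage_mk]
  exact dvd_mul_right _ _

theorem card_att_union [Finite G] (K : Subgroup G) :
    Nat.card ↥(att p c K ∪ (Subgroup.center G : Set G)) = Nat.card (att p c K) + Nat.card (Subgroup.center G) := by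
  have hd : Disjoint (att p c K) (Subgroup.center G : Set G) := Set.disjoint_left.mpr fun y hy => hy.1
  rw [Nat.card_coe_set_eq, Set.ncard_union_eq hd, ← Nat.card_coe_set_eq, ← Nat.card_coe_set_eq]
  rfl

theorem card_le_att [Finite G] {K : Subgroup G} (hK : IsCls p c K) :
    Nat.card K ≤ Nat.card (att p c K) + Nat.card (Subgroup.center G) := by
  rw [← card_att_union]
  refine Nat.card_mono (Set.toFinite _) fun k hk => ?_
  rw [← one_mul k]
  exact att_union_mul hK (Or.inr (one_mem _)) hk

theorem two_center_le [Finite G] (hs : Setup p G c d R T) {K : Subgroup G} (hK : IsCls p c K) :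
    2 * Nat.card (Subgroup.center G) ≤ Nat.card K := by
  obtain ⟨A, hA, rfl⟩ := hK
  obtain ⟨a, ha, haz⟩ := exists_noncentral hA
  have hlt : Subgroup.center G < clsCent p c A :=
    lt_of_le_of_ne (center_le_clsCent A) fun e => haz (e ▸ hs.le_clsCent hA ha)
  obtain ⟨k, hk⟩ := Subgroup.card_dvd_of_le hlt.le
  have hne : k ≠ 1 := fun e => hlt.ne (Subgroup.eq_of_le_of_card_ge hlt.le (by rw [hk, e, mul_one]))
  have h0 : k ≠ 0 := fun e => (Nat.card_pos (α := clsCent p c A)).ne' (by rw [hk, e, mul_zero])
  rw [hk, mul_comm]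
  exact Nat.mul_le_mul_left _ (by omega)

/-- The abelian group of a class. -/
theorem relIndex_normalizer [Finite G] (hp : p.Prime) (hs : Setup p G c d R T) {K : Subgroup G}
    (hK : IsCls p c K) : K.relIndex (Subgroup.normalizer (K : Set G)) ≤ R := by
  obtain ⟨A, hA, rfl⟩ := hK
  let U : Subgroup G := Subgroup.closure (clsSet p c A)
  have hU : Subgroup.centralizer (U : Set G) = clsCent p c A := Subgroup.centralizer_closure _
  have hcomm : U ≤ Subgroup.centralizer (U : Set G) := by
    rw [hU, Subgroup.closure_le]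
    rintro x ⟨B, hB, hBA, hx⟩
    rw [← hs.clsCent_eq hB hA hBA]
    exact hs.le_clsCent hB hx
  have hab : ∀ a ∈ U, ∀ b ∈ U, a * b = b * a := fun a ha b hb =>
    (Subgroup.mem_centralizer_iff.mp (hcomm ha) b hb).symm
  have hord : ∀ a ∈ U, ¬ p ∣ orderOf a := by
    intro a ha
    induction ha using Subgroup.closure_induction with
    | mem x hx => obtain ⟨B, hB, -, hxB⟩ := hx; exact hB.1.2 x hxB
    | one => rw [orderOf_one]; exact hp.not_dvd_one
    | mul x y hx hy ihx ihy =>
      intro h
      have h1 := h.trans (((Commute.orderOf_mul_dvd_lcm (hab x hx y hy : Commute x y))).trans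
        (Nat.lcm_dvd_mul _ _))
      exact (hp.dvd_mul.mp h1).elim ihx ihy
    | inv x _ ih => rwa [orderOf_inv]
  have hle : Subgroup.normalizer (clsCent p c A : Set G) ≤ Subgroup.normalizer (U : Set G) := by
    intro g hg
    rw [Subgroup.mem_normalizer_iff_map_conj_eq] at hg ⊢
    have himg : ∀ φ : G ≃* G, (clsCent p c A).map φ.toMonoidHom = clsCent p c A →
        ∀ x ∈ clsSet p c A, φ x ∈ clsSet p c A := by
      rintro φ hφ x ⟨B, hB, hBA, hx⟩
      refine ⟨B.map φ.toMonoidHom, good_map φ hB, ?_, x, hx, rfl⟩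
      refine hs.comm_of_clsCent_eq (good_map φ hB) hA ?_
      rw [clsCent_map, hs.clsCent_eq hB hA hBA, hφ]
    show U.map (MulAut.conj g).toMonoidHom = U
    rw [MonoidHom.map_closure]
    congr 1
    refine Set.Subset.antisymm (Set.image_subset_iff.mpr fun x hx => himg _ hg x hx) fun x hx => ?_
    refine ⟨(MulAut.conj g).symm x, himg (MulAut.conj g).symm ?_ x hx, (MulAut.conj g).apply_symm_apply x⟩
    conv_lhs => rw [← hg]
    rw [Subgroup.map_map]
    exact (congrArg (fun f => Subgroup.map f (clsCent p c A))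
      (MonoidHom.ext (MulAut.conj g).symm_apply_apply)).trans (Subgroup.map_id _)
  rw [← hU]
  conv_lhs => rw [hU]
  refine (Subgroup.relIndex_le_of_le_right hle (Subgroup.index_ne_zero_of_finite
      (H := (clsCent p c A).subgroupOf (Subgroup.normalizer (U : Set G))))).trans ?_
  rw [← hU]
  exact hs.autom U ⟨hab, hord⟩

theorem card_normalizer_le [Finite G] (hp : p.Prime) (hs : Setup p G c d R T) {K : Subgroup G}
    (hK : IsCls p c K) :
    Nat.card (Subgroup.normalizer (K : Set G)) ∣ R.factorial * Nat.card K ∧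
      Nat.card (Subgroup.normalizer (K : Set G)) ≤ R * Nat.card K := by
  have h : Nat.card (Subgroup.normalizer (K : Set G)) = Nat.card K * K.relIndex (Subgroup.normalizer (K : Set G)) := by
    rw [← Subgroup.relIndex_bot_left, ← Subgroup.relIndex_bot_left,
      Subgroup.relIndex_mul_relIndex ⊥ K _ bot_le Subgroup.le_normalizer]
  rw [h, mul_comm _ (K.relIndex _)]
  exact ⟨Nat.mul_dvd_mul_right (Nat.dvd_factorial (Nat.pos_of_ne_zero
      (Subgroup.index_ne_zero_of_finite (H := K.subgroupOf _))) (hs.relIndex_normalizer hp hK)) _,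
    Nat.mul_le_mul_right _ (hs.relIndex_normalizer hp hK)⟩

/-- An element not attached to a large class has small centralizer. -/
theorem card_centralizer_le [Finite G] (hp : p.Prime) (hs : Setup p G c d R T) {L : ℕ} {y : G}
    (hy : y ∉ Subgroup.center G)
    (h : ∀ K, IsCls p c K → L * Nat.card (Subgroup.center G) < Nat.card K → y ∉ att p c K) :
    Nat.card (Subgroup.centralizer {y}) ≤ (c ^ (d + 1) + R * L) * Nat.card (Subgroup.center G) := by
  by_cases hg : ∃ A : Subgroup G, Good p c A ∧ A ≤ Subgroup.centralizer {y}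
  · obtain ⟨A, hA, hAy⟩ := hg
    have hK : IsCls p c (clsCent p c A) := ⟨A, hA, rfl⟩
    have hsmall : Nat.card (clsCent p c A) ≤ L * Nat.card (Subgroup.center G) :=
      le_of_not_gt fun hh => h _ hK hh ⟨hy, A, hA, hAy, rfl⟩
    have hle : Subgroup.centralizer {y} ≤ Subgroup.normalizer (clsCent p c A : Set G) := by
      intro g hg'
      rw [Subgroup.mem_normalizer_iff_map_conj_eq]
      refine (clsCent_map (MulAut.conj g) A).symm.trans ?_
      have hA' := good_map (p := p) (c := c) (MulAut.conj g) hA
      refine hs.clsCent_eq hA' hA (hs.comm_of_le hA' hA hy ?_ hAy)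
      rintro _ ⟨a, ha, rfl⟩
      simp only [MulEquiv.coe_toMonoidHom, MulAut.conj_apply]
      exact mul_mem (mul_mem hg' (hAy ha)) (inv_mem hg')
    calc Nat.card (Subgroup.centralizer {y}) ≤ R * Nat.card (clsCent p c A) :=
          (Subgroup.card_le_of_le hle).trans (hs.card_normalizer_le hp hK).2
      _ ≤ R * (L * Nat.card (Subgroup.center G)) := Nat.mul_le_mul_left _ hsmall
      _ ≤ _ := by rw [add_mul, mul_assoc]; exact Nat.le_add_left _ _
  · push Not at hg
    obtain ⟨N, hN, hNab, hNc⟩ := hs.cent y hy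
    have hN' : Nat.card N ≤ c ^ d * Nat.card (Subgroup.center G) := le_of_not_gt fun hh => by
      obtain ⟨A, hAN, hA⟩ := hs.exists_good hNab hh
      exact hg A hA (hAN.trans hN)
    calc Nat.card (Subgroup.centralizer {y}) = Nat.card N * N.relIndex (Subgroup.centralizer {y}) := by
          rw [← Subgroup.relIndex_bot_left, ← Subgroup.relIndex_bot_left,
            Subgroup.relIndex_mul_relIndex ⊥ N _ bot_le hN]
      _ ≤ (c ^ d * Nat.card (Subgroup.center G)) * c := Nat.mul_le_mul hN' hNc
      _ ≤ _ := by rw [add_mul, pow_succ, mul_right_comm]; exact Nat.le_add_right _ _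

/-- The conjugation action on cosets of the center. -/
theorem dvd_card_rest [Finite G] (hs : Setup p G c d R T) (Rest : Set G)
    (hcent : ∀ y ∈ Rest, ∀ z ∈ Subgroup.center G, y * z ∈ Rest)
    (hconj : ∀ y ∈ Rest, ∀ g : G, g * y * g⁻¹ ∈ Rest) (m : ℕ)
    (hbd : ∀ y ∈ Rest, Nat.card (Subgroup.centralizer {y}) ≤ m * Nat.card (Subgroup.center G)) :
    Nat.card G ∣ (m * T).factorial * Nat.card Rest := by
  classical
  let X : Set (G ⧸ Subgroup.center G) := (QuotientGroup.mk : G → G ⧸ Subgroup.center G) '' Rest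
  have hconjX : ∀ (g : G) (x : G ⧸ Subgroup.center G), x ∈ X →
      (g : G ⧸ Subgroup.center G) * x * (g : G ⧸ Subgroup.center G)⁻¹ ∈ X := by
    rintro g x ⟨y, hy, rfl⟩
    exact ⟨g * y * g⁻¹, hconj y hy g, by rw [QuotientGroup.mk_mul, QuotientGroup.mk_mul, QuotientGroup.mk_inv]⟩
  letI : MulAction G X :=
    { smul := fun g x => ⟨(g : G ⧸ Subgroup.center G) * x * (g : G ⧸ Subgroup.center G)⁻¹, hconjX g x x.2⟩
      one_smul := fun x => Subtype.ext (by
        show ((1 : G) : G ⧸ Subgroup.center G) * x * ((1 : G) : G ⧸ Subgroup.center G)⁻¹ = x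
        rw [QuotientGroup.mk_one, one_mul, inv_one, mul_one])
      mul_smul := fun g g' x => Subtype.ext (by
        show ((g * g' : G) : G ⧸ Subgroup.center G) * x * ((g * g' : G) : G ⧸ Subgroup.center G)⁻¹ =
          (g : G ⧸ Subgroup.center G) * ((g' : G ⧸ Subgroup.center G) * x * (g' : G ⧸ Subgroup.center G)⁻¹) *
            (g : G ⧸ Subgroup.center G)⁻¹
        rw [QuotientGroup.mk_mul]; group) }
  have := Fintype.ofFinite X
  have hcard : Nat.card Rest = Nat.card (Subgroup.center G) * Nat.card X := by
    rw [← QuotientGroup.card_preimage_mk]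
    congr 2
    refine Set.Subset.antisymm (Set.subset_preimage_image _ _) ?_
    rintro y ⟨x, hx, hxy⟩
    have := hcent x hx _ (QuotientGroup.eq.mp hxy)
    rwa [mul_inv_cancel_left] at this
  have hsum : ∑ _x : X, Nat.card (Subgroup.center G) = Nat.card Rest := by
    rw [hcard, Finset.sum_const, Finset.card_univ, smul_eq_mul, mul_comm, Nat.card_eq_fintype_card (α := X)]
  rw [← hsum]
  refine dvd_mul_sum _ (fun _ _ => rfl) _ ?_
  rintro ⟨_, y, hy, rfl⟩
  generalize hS : stabilizer G (⟨(y : G ⧸ Subgroup.center G), y, hy, rfl⟩ : X) = S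
  have hmem : ∀ g, g ∈ S ↔ y⁻¹ * (g * y * g⁻¹) ∈ Subgroup.center G := by
    intro g
    rw [← hS, mem_stabilizer_iff, Subtype.ext_iff]
    show (g : G ⧸ Subgroup.center G) * y * (g : G ⧸ Subgroup.center G)⁻¹ = y ↔ _
    rw [← QuotientGroup.mk_inv, ← QuotientGroup.mk_mul, ← QuotientGroup.mk_mul, eq_comm, QuotientGroup.eq]
  have hCS : Subgroup.centralizer {y} ≤ S := fun g hg => by
    rw [hmem, Subgroup.mem_centralizer_singleton_iff.mp hg, mul_inv_cancel_right, inv_mul_cancel]
    exact one_mem _
  have hrel : (Subgroup.centralizer {y}).relIndex S ≤ T := by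
    refine le_trans ?_ (hs.shift y)
    let F : S ⧸ (Subgroup.centralizer {y}).subgroupOf S → {z : Subgroup.center G // IsConj y (y * z)} :=
      Quotient.lift (fun g : S => ⟨⟨y⁻¹ * ((g : G) * y * (g : G)⁻¹), (hmem g).mp g.2⟩,
        isConj_iff.mpr ⟨g, (mul_inv_cancel_left y _).symm⟩⟩) fun g g' hgg => by
          have h1 : ((g : G)⁻¹ * g') * y = y * ((g : G)⁻¹ * g') :=
            Subgroup.mem_centralizer_singleton_iff.mp
              (show g⁻¹ * g' ∈ (Subgroup.centralizer {y}).subgroupOf S from QuotientGroup.leftRel_apply.mp hgg)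
          refine Subtype.ext (Subtype.ext ?_)
          show y⁻¹ * ((g : G) * y * (g : G)⁻¹) = y⁻¹ * ((g' : G) * y * (g' : G)⁻¹)
          rw [show (g' : G) * y * (g' : G)⁻¹ = (g : G) * (((g : G)⁻¹ * g') * y) * (g' : G)⁻¹ by group, h1]
          group
    refine Nat.card_le_card_of_injective F ?_
    rintro ⟨g⟩ ⟨g'⟩ h
    refine Quotient.sound (QuotientGroup.leftRel_apply.mpr ?_)
    have h1 : y⁻¹ * ((g : G) * y * (g : G)⁻¹) = y⁻¹ * ((g' : G) * y * (g' : G)⁻¹) :=
      congrArg (fun z => ((z.1 : Subgroup.center G) : G)) h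
    rw [Subgroup.mem_subgroupOf, Subgroup.coe_mul, Subgroup.coe_inv, Subgroup.mem_centralizer_singleton_iff]
    rw [mul_right_inj] at h1
    calc (g : G)⁻¹ * g' * y = (g : G)⁻¹ * ((g' : G) * y * (g' : G)⁻¹) * g' := by group
      _ = (g : G)⁻¹ * ((g : G) * y * (g : G)⁻¹) * g' := by rw [h1]
      _ = y * ((g : G)⁻¹ * g') := by group
  obtain ⟨k, hk⟩ := Subgroup.card_dvd_of_le (Subgroup.center_le_centralizer ({y} : Set G))
  have hcardS : Nat.card S = Nat.card (Subgroup.center G) * (k * (Subgroup.centralizer {y}).relIndex S) := by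
    rw [← mul_assoc, ← hk, ← Subgroup.relIndex_bot_left, ← Subgroup.relIndex_bot_left,
      Subgroup.relIndex_mul_relIndex ⊥ _ _ bot_le hCS]
  have hkm : k ≤ m := by
    have h1 := hbd y hy
    rw [hk, mul_comm m] at h1
    exact Nat.le_of_mul_le_mul_left h1 Nat.card_pos
  show Nat.card S ∣ _
  rw [hcardS, mul_comm (m * T).factorial]
  refine Nat.mul_dvd_mul_left _ (Nat.dvd_factorial (Nat.mul_pos ?_ ?_) (Nat.mul_le_mul hkm hrel))
  · exact Nat.pos_of_ne_zero fun e => (Nat.card_pos (α := Subgroup.centralizer {y})).ne' (by rw [hk, e, mul_zero])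
  · exact Nat.pos_of_ne_zero (Subgroup.index_ne_zero_of_finite (H := (Subgroup.centralizer {y}).subgroupOf S))

/-- The classes above a level. -/
noncomputable def large (p c : ℕ) (G : Type u) [Group G] [Finite G] (L : ℕ) : Finset (Subgroup G) :=
  haveI := Classical.decPred fun K : Subgroup G => IsCls p c K ∧ L * Nat.card (Subgroup.center G) < Nat.card K
  haveI := Fintype.ofFinite (Subgroup G)
  Finset.univ.filter fun K => IsCls p c K ∧ L * Nat.card (Subgroup.center G) < Nat.card K

theorem mem_large [Finite G] {L : ℕ} {K : Subgroup G} :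
    K ∈ large p c G L ↔ IsCls p c K ∧ L * Nat.card (Subgroup.center G) < Nat.card K := by
  simp [large]

theorem large_map [Finite G] {L : ℕ} {K : Subgroup G} (φ : G ≃* G) (h : K ∈ large p c G L) :
    K.map φ.toMonoidHom ∈ large p c G L := by
  rw [mem_large] at h ⊢
  exact ⟨isCls_map φ h.1, by rw [Subgroup.card_map_of_injective φ.injective]; exact h.2⟩

theorem sum_att_le [Finite G] (hs : Setup p G c d R T) (Ω : Finset (Subgroup G)) :
    ∑ K ∈ Ω, Nat.card (att p c K) ≤ Nat.card G := by
  classical
  have := Fintype.ofFinite G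
  have h : ∀ K : Subgroup G, Nat.card (att p c K) = (Finset.univ.filter fun y : G => y ∈ att p c K).card := fun K => by
    rw [Nat.card_coe_set_eq, ← Set.ncard_coe_finset, Finset.coe_filter]
    congr 1
    ext y; simp
  rw [Finset.sum_congr rfl fun K _ => h K, ← Finset.card_biUnion ?_, Nat.card_eq_fintype_card (α := G)]
  · exact Finset.card_le_univ _
  · intro K _ K' _ hne
    rw [Function.onFun, Finset.disjoint_left]
    intro y hy hy'
    exact hne (hs.att_unique (Finset.mem_filter.mp hy).2 (Finset.mem_filter.mp hy').2)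

/-- One counting step: an abelian subgroup of bounded index, or a class of bounded size. -/
theorem step [Finite G] (hp : p.Prime) (hs : Setup p G c d R T) (L : ℕ) :
    (∃ A : Subgroup G, (∀ a ∈ A, ∀ b ∈ A, a * b = b * a) ∧ A.index ≤ c * R + stepDen c d R T L + 1) ∨
      ∃ K ∈ large p c G L, Nat.card K ≤ (stepDen c d R T L + 1) * Nat.card (Subgroup.center G) := by
  classical
  have := Fintype.ofFinite G
  have := fun K : Subgroup G => Fintype.ofFinite (att p c K)
  have := fun X : Set G => Fintype.ofFinite X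
  by_cases hone : ∃ K, large p c G L = {K}
  · left
    obtain ⟨K, hK⟩ := hone
    have hmem : K ∈ large p c G L := hK ▸ Finset.mem_singleton_self K
    have hn : Subgroup.normalizer (K : Set G) = ⊤ := by
      rw [eq_top_iff]
      intro g _
      rw [Subgroup.mem_normalizer_iff_map_conj_eq]
      have h := large_map (p := p) (c := c) (MulAut.conj g) hmem
      rw [hK, Finset.mem_singleton] at h
      exact h
    have hcls := (mem_large.mp hmem).1
    have h1 := hs.relIndex_normalizer hp hcls
    rw [hn, Subgroup.relIndex_top_right] at h1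
    obtain ⟨A, hA, rfl⟩ := hcls
    obtain ⟨a, ha, haz⟩ := exists_noncentral hA
    obtain ⟨N, hN, hNab, hNc⟩ := hs.cent a haz
    have hle : clsCent p c A ≤ Subgroup.centralizer {a} := by
      refine Subgroup.centralizer_le (Set.singleton_subset_iff.mpr ⟨A, hA, le_centralizer_of_comm hA.1.1, ha⟩)
    refine ⟨clsCent p c A ⊓ N, fun x hx y hy => hNab.1 x hx.2 y hy.2, ?_⟩
    rw [← Subgroup.relIndex_mul_index (H := clsCent p c A ⊓ N) (K := clsCent p c A) inf_le_left,
      inf_comm, Subgroup.inf_relIndex_right]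
    have h2 : N.relIndex (clsCent p c A) ≤ c := (Subgroup.relIndex_le_of_le_right hle
      (Subgroup.index_ne_zero_of_finite (H := N.subgroupOf _))).trans hNc
    exact (Nat.mul_le_mul h2 h1).trans (by omega)
  rcases Finset.eq_empty_or_nonempty (large p c G L) with hΩ | hΩ
  all_goals
    let S : Finset (Subgroup G) := large p c G L
    let AU : Subgroup G → ℕ := fun K => Nat.card ↥(att p c K ∪ (Subgroup.center G : Set G))
    let Rest : Set G := {y | y ∉ Subgroup.center G ∧ ∀ K ∈ S, y ∉ att p c K}
    have hRmap : ∀ (φ : G ≃* G) (y : G), y ∈ Rest → φ y ∈ Rest := by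
      rintro φ y ⟨hy, hK⟩
      refine ⟨fun hz => hy ?_, fun K hKS h => hK _ (large_map φ.symm hKS) ?_⟩
      · rw [Subgroup.mem_center_iff] at hz ⊢
        exact fun g => φ.injective (by rw [map_mul, map_mul]; exact hz (φ g))
      · have := mem_att_map φ.symm h
        rwa [φ.symm_apply_apply] at this
    have hRcent : ∀ y ∈ Rest, ∀ z ∈ Subgroup.center G, y * z ∈ Rest := by
      rintro y ⟨hy, hK⟩ z hz
      refine ⟨fun h => hy ((Subgroup.mul_mem_cancel_right _ hz).mp h), fun K hKS h => hK K hKS ?_⟩
      obtain ⟨-, A, hA, hAy, rfl⟩ := h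
      rcases att_union_mul (p := p) (c := c) (K := clsCent p c A) ⟨A, hA, rfl⟩ (k := z⁻¹)
        (Or.inl ⟨fun h => hy ((Subgroup.mul_mem_cancel_right _ hz).mp h), A, hA, hAy, rfl⟩)
        (inv_mem (center_le_clsCent A hz)) with h' | h'
      · rwa [mul_inv_cancel_right] at h'
      · rw [mul_inv_cancel_right] at h'
        exact absurd h' hy
    have hR : Nat.card G ∣ stepDen c d R T L * Nat.card Rest := by
      refine (hs.dvd_card_rest Rest hRcent (fun y hy g => hRmap (MulAut.conj g) y hy) _ ?_).trans
        (Nat.mul_dvd_mul_right (dvd_mul_right _ _) _)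
      rintro y ⟨hy, hK⟩
      exact hs.card_centralizer_le hp hy fun K h1 h2 => hK K (mem_large.mpr ⟨h1, h2⟩)
    have hU : Nat.card G ∣ stepDen c d R T L * ∑ K ∈ S, AU K := by
      letI : MulAction G S :=
        { smul := fun g K => ⟨K.1.map (MulAut.conj g).toMonoidHom, large_map _ K.2⟩
          one_smul := fun K => Subtype.ext (by
            show K.1.map (MulAut.conj (1 : G)).toMonoidHom = K.1
            rw [map_one]; exact Subgroup.map_id _)
          mul_smul := fun g g' K => Subtype.ext (by
            show K.1.map (MulAut.conj (g * g')).toMonoidHom =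
              (K.1.map (MulAut.conj g').toMonoidHom).map (MulAut.conj g).toMonoidHom
            rw [Subgroup.map_map, map_mul]; rfl) }
      rw [← Finset.sum_coe_sort S AU]
      refine dvd_mul_sum (fun K : S => AU K) (fun g K => ?_) _ fun K => ?_
      · show AU (K.1.map (MulAut.conj g).toMonoidHom) = AU K.1
        simp only [AU, card_att_union, card_att_map]
      · have hKc := (mem_large.mp K.2).1
        have hst : stabilizer G K = Subgroup.normalizer (K.1 : Set G) := by
          ext g
          rw [mem_stabilizer_iff, Subtype.ext_iff, Subgroup.mem_normalizer_iff_map_conj_eq]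
          rfl
        rw [hst]
        refine (hs.card_normalizer_le hp hKc).1.trans (Nat.mul_dvd_mul (dvd_mul_left _ _) ?_)
        exact card_dvd_of_mul K.1 _ fun y hy k hk => att_union_mul hKc hy hk
    have hsum : Nat.card G + S.card * Nat.card (Subgroup.center G) =
        Nat.card (Subgroup.center G) + ∑ K ∈ S, AU K + Nat.card Rest := by
      have hdis : (S : Set (Subgroup G)).PairwiseDisjoint fun K => (att p c K).toFinset := by
        intro K _ K' _ hne
        rw [Function.onFun, Finset.disjoint_left]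
        intro y hy hy'
        exact hne (hs.att_unique (Set.mem_toFinset.mp hy) (Set.mem_toFinset.mp hy'))
      have h1 : ∑ K ∈ S, AU K = (S.biUnion fun K => (att p c K).toFinset).card +
          S.card * Nat.card (Subgroup.center G) := by
        rw [Finset.card_biUnion hdis]
        simp only [AU, card_att_union, Finset.sum_add_distrib, Finset.sum_const, smul_eq_mul]
        simp only [Nat.card_eq_card_toFinset]
      have h2 : (Finset.univ : Finset G) = (Subgroup.center G : Set G).toFinset ∪
          (S.biUnion fun K => (att p c K).toFinset) ∪ Rest.toFinset := by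
        ext y
        simp only [Finset.mem_univ, Finset.mem_union, Finset.mem_biUnion, Set.mem_toFinset, true_iff]
        by_cases hy : y ∈ Subgroup.center G
        · exact Or.inl (Or.inl hy)
        by_cases hK : ∃ K ∈ S, y ∈ att p c K
        · exact Or.inl (Or.inr hK)
        · exact Or.inr ⟨hy, fun K hKS h => hK ⟨K, hKS, h⟩⟩
      have h3 := congrArg Finset.card h2
      rw [Finset.card_univ, ← Nat.card_eq_fintype_card, Finset.card_union_of_disjoint,
        Finset.card_union_of_disjoint] at h3
      · rw [h1, h3, ← Nat.card_eq_card_toFinset, ← Nat.card_eq_card_toFinset,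
          show Nat.card ↥(Subgroup.center G : Set G) = Nat.card (Subgroup.center G) from rfl]
        omega
      · rw [Finset.disjoint_left]
        intro y hy hy'
        obtain ⟨K, -, hK⟩ := Finset.mem_biUnion.mp hy'
        exact (Set.mem_toFinset.mp hK).1 (Set.mem_toFinset.mp hy)
      · rw [Finset.disjoint_left]
        intro y hy hy'
        have hyR := Set.mem_toFinset.mp hy'
        rcases Finset.mem_union.mp hy with h | h
        · exact hyR.1 (Set.mem_toFinset.mp h)
        · obtain ⟨K, hKS, hK⟩ := Finset.mem_biUnion.mp h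
          exact hyR.2 K hKS (Set.mem_toFinset.mp hK)
  · left
    refine ⟨Subgroup.center G, fun a _ b hb => Subgroup.mem_center_iff.mp hb a, ?_⟩
    have h0 : S.card = 0 := by simp only [S, hΩ, Finset.card_empty]
    rw [h0, zero_mul, add_zero, show ∑ K ∈ S, AU K = 0 by simp only [S, hΩ, Finset.sum_empty], add_zero] at hsum
    have h1 : Nat.card G ∣ stepDen c d R T L * Nat.card (Subgroup.center G) := by
      have := congrArg (stepDen c d R T L * ·) hsum
      simp only [mul_add] at this
      exact (Nat.dvd_add_left hR).mp (this ▸ dvd_mul_left _ _)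
    have h2 := Nat.le_of_dvd (Nat.mul_pos (Nat.mul_pos (Nat.factorial_pos _) (Nat.factorial_pos _)) Nat.card_pos) h1
    rw [← (Subgroup.center G).index_mul_card] at h2
    have := Nat.le_of_mul_le_mul_right h2 Nat.card_pos
    unfold stepDen at this ⊢
    omega
  · right
    have htwo : 2 ≤ S.card := by
      by_contra hlt
      obtain ⟨K, hK⟩ := hΩ
      exact hone ⟨K, Finset.eq_singleton_iff_unique_mem.mpr ⟨hK, fun K' hK' =>
        Finset.card_le_one.mp (by omega : S.card ≤ 1) K' hK' K hK⟩⟩
    have h1 : Nat.card G ∣ stepDen c d R T L * ((S.card - 1) * Nat.card (Subgroup.center G)) := by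
      have e : Nat.card G + (S.card - 1) * Nat.card (Subgroup.center G) = ∑ K ∈ S, AU K + Nat.card Rest := by
        have h : S.card * Nat.card (Subgroup.center G) =
            (S.card - 1) * Nat.card (Subgroup.center G) + Nat.card (Subgroup.center G) := by
          rw [Nat.sub_one_mul, Nat.sub_add_cancel (Nat.le_mul_of_pos_left _ (by omega))]
        omega
      have := congrArg (stepDen c d R T L * ·) e
      simp only [mul_add] at this
      exact (Nat.dvd_add_right (dvd_mul_left _ _)).mp (this ▸ dvd_add hU hR)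
    have h2 : Nat.card G < stepDen c d R T L * (S.card * Nat.card (Subgroup.center G)) := by
      refine (Nat.le_of_dvd ?_ h1).trans_lt ?_
      · exact Nat.mul_pos (Nat.mul_pos (Nat.factorial_pos _) (Nat.factorial_pos _))
          (Nat.mul_pos (by omega) Nat.card_pos)
      · exact Nat.mul_lt_mul_of_pos_left (Nat.mul_lt_mul_of_pos_right (by omega) Nat.card_pos)
          (Nat.mul_pos (Nat.factorial_pos _) (Nat.factorial_pos _))
    by_contra hno
    push Not at hno
    have h3 : ∑ _K ∈ S, stepDen c d R T L * Nat.card (Subgroup.center G) ≤ ∑ K ∈ S, Nat.card (att p c K) :=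
      Finset.sum_le_sum fun K hK => by
        have h4 := hno K hK
        have h5 := card_le_att (mem_large.mp hK).1
        rw [add_mul, one_mul] at h4
        omega
    rw [Finset.sum_const, smul_eq_mul, ← mul_assoc, mul_comm S.card, mul_assoc] at h3
    exact (h3.trans (hs.sum_att_le S)).not_gt h2

/-- Removing a class of bounded size lowers the measure by a full share. -/
theorem drop [Finite G] (hp : p.Prime) (hs : Setup p G c d R T) {L L' : ℕ} (hLL : L ≤ L') {K : Subgroup G}
    (hK : K ∈ large p c G L) (hK' : Nat.card K ≤ L' * Nat.card (Subgroup.center G)) :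
    2 * R * ∑ X ∈ large p c G L', Nat.card (att p c X) + Nat.card G ≤
      2 * R * ∑ X ∈ large p c G L, Nat.card (att p c X) := by
  classical
  have := Fintype.ofFinite G
  let O : Finset (Subgroup G) := Finset.univ.image fun g : G => K.map (MulAut.conj g).toMonoidHom
  have hO : O ⊆ large p c G L := by
    intro X hX
    obtain ⟨g, -, rfl⟩ := Finset.mem_image.mp hX
    exact large_map _ hK
  have hsub : large p c G L' ⊆ large p c G L \ O := by
    intro X hX
    rw [Finset.mem_sdiff]
    rw [mem_large] at hX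
    refine ⟨mem_large.mpr ⟨hX.1, lt_of_le_of_lt (Nat.mul_le_mul_right _ hLL) hX.2⟩, fun hXO => ?_⟩
    obtain ⟨g, -, rfl⟩ := Finset.mem_image.mp hXO
    rw [Subgroup.card_map_of_injective (MulAut.conj g).injective] at hX
    omega
  have hOcard : O.card * Nat.card (Subgroup.normalizer (K : Set G)) = Nat.card G := by
    letI : MulAction G (Subgroup G) :=
      { smul := fun g X => X.map (MulAut.conj g).toMonoidHom
        one_smul := fun X => by
          show X.map (MulAut.conj (1 : G)).toMonoidHom = X
          rw [map_one]; exact Subgroup.map_id _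
        mul_smul := fun g g' X => by
          show X.map (MulAut.conj (g * g')).toMonoidHom =
            (X.map (MulAut.conj g').toMonoidHom).map (MulAut.conj g).toMonoidHom
          rw [Subgroup.map_map, map_mul]; rfl }
    have hst : stabilizer G K = Subgroup.normalizer (K : Set G) := by
      ext g
      rw [mem_stabilizer_iff, Subgroup.mem_normalizer_iff_map_conj_eq]
      rfl
    rw [← hst, ← (stabilizer G K).index_mul_card, index_stabilizer, ← Nat.card_coe_set_eq,
      ← Nat.card_eq_finsetCard]
    congr 1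
    exact Nat.card_congr (Equiv.subtypeEquivRight fun X => by
      simp only [O, Finset.mem_image, Finset.mem_univ, true_and]; rfl)
  have hshare : Nat.card G ≤ 2 * R * ∑ X ∈ O, Nat.card (att p c X) := by
    have hc : ∑ X ∈ O, Nat.card (att p c X) = O.card * Nat.card (att p c K) := by
      rw [Finset.sum_congr rfl fun X hX => show Nat.card (att p c X) = Nat.card (att p c K) by
        obtain ⟨g, -, rfl⟩ := Finset.mem_image.mp hX
        exact card_att_map _ K, Finset.sum_const, smul_eq_mul]
    have h1 := (hs.card_normalizer_le hp (mem_large.mp hK).1).2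
    have h2 := card_le_att (mem_large.mp hK).1
    have h3 := hs.two_center_le (mem_large.mp hK).1
    have h4 : Nat.card (Subgroup.normalizer (K : Set G)) ≤ 2 * R * Nat.card (att p c K) := by
      refine h1.trans ?_
      rw [mul_assoc, mul_left_comm]
      exact Nat.mul_le_mul_left _ (by omega)
    rw [← hOcard, hc, mul_left_comm]
    exact Nat.mul_le_mul_left _ h4
  rw [← Finset.sum_sdiff hO, mul_add]
  exact Nat.add_le_add (Nat.mul_le_mul_left _ (Finset.sum_le_sum_of_subset hsub)) hshare

/-- The core: an abelian subgroup of bounded index. -/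
theorem exists_abelian [Finite G] (hp : p.Prime) (hs : Setup p G c d R T) :
    ∃ A : Subgroup G, (∀ a ∈ A, ∀ b ∈ A, a * b = b * a) ∧ A.index ≤ bound c d R T := by
  by_contra hno
  push Not at hno
  have key : ∀ i ≤ 2 * R + 1,
      2 * R * ∑ X ∈ large p c G (level c d R T i), Nat.card (att p c X) + i * Nat.card G ≤ 2 * R * Nat.card G := by
    intro i
    induction i with
    | zero => intro _; rw [zero_mul, add_zero]; exact Nat.mul_le_mul_left _ (hs.sum_att_le _)
    | succ i ih =>
      intro hi
      have hstep : stepDen c d R T (level c d R T i) ≤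
          ∑ j ∈ Finset.range (2 * R + 2), stepDen c d R T (level c d R T j) :=
        Finset.single_le_sum (f := fun j => stepDen c d R T (level c d R T j)) (fun _ _ => Nat.zero_le _)
          (Finset.mem_range.mpr (by omega))
      rcases hs.step hp (level c d R T i) with ⟨A, hA, hidx⟩ | ⟨K, hK, hKc⟩
      · have := hno A hA
        unfold bound at this
        omega
      · have h := hs.drop hp (L' := level c d R T (i + 1)) (by simp only [level]; omega) hK
          (hKc.trans (Nat.mul_le_mul_right _ (by simp only [level]; omega)))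
        have := ih (by omega)
        rw [add_mul, one_mul]
        omega
  have h := key (2 * R + 1) le_rfl
  rw [add_mul, one_mul] at h
  have := Nat.card_pos (α := G)
  omega

end Setup

end CfsgLib.Char.BrauerFeit
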