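import Cfsg.Agent.Lib.Char.BrauerFeit.Count
import Mathlib.GroupTheory.Sylow
import Mathlib.LinearAlgebra.Eigenspace.Triangularizable
import Mathlib.LinearAlgebra.Determinant
import Mathlib.FieldTheory.IsAlgClosed.AlgebraicClosure
import Mathlib.LinearAlgebra.Matrix.ToLin
import Mathlib.Algebra.Polynomial.Roots

/-!
# The theorem of Brauer and Feit

A finite linear group of degree `n` in characteristic `p` with Sylow `p`-subgroups of order at
most `p ^ m` has an abelian subgroup of index bounded by a function of `p`, `m` and `n`.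
-/

set_option autoImplicit false
set_option linter.unusedSectionVars false

namespace CfsgLib.Char.BrauerFeit

open Module

universe u v

section Group

variable {G : Type u} [Group G] [Finite G] {p : ℕ}

theorem factorization_le_of_le {H : Subgroup G} : (Nat.card H).factorization p ≤ (Nat.card G).factorization p :=
  (Nat.factorization_le_iff_dvd Nat.card_pos.ne' Nat.card_pos.ne').mpr H.card_subgroup_dvd_card p

/-- The elements of order prime to `p` of a group with central commutators of `p`-power order. -/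
theorem exists_pprime_abelian (hp : p.Prime) (D : Subgroup G)
    (hcen : ∀ x ∈ D, ∀ y ∈ D, ∀ z ∈ D, x * y * x⁻¹ * y⁻¹ * z = z * (x * y * x⁻¹ * y⁻¹))
    (hpow : ∀ x ∈ D, ∀ y ∈ D, ∃ k : ℕ, (x * y * x⁻¹ * y⁻¹) ^ p ^ k = 1) {m : ℕ}
    (hm : (Nat.card G).factorization p ≤ m) :
    ∃ A ≤ D, PAb p A ∧ A.relIndex D ≤ p ^ m := by
  have := Fact.mk hp
  let S : Set G := {x | x ∈ D ∧ ¬ p ∣ orderOf x}
  have hcomm : ∀ x ∈ S, ∀ y ∈ S, x * y = y * x := by
    rintro x ⟨hx, hxo⟩ y ⟨hy, -⟩
    obtain ⟨k, hk⟩ := hpow x hx y hy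
    set w := x * y * x⁻¹ * y⁻¹ with hw
    have hwD : w ∈ D := mul_mem (mul_mem (mul_mem hx hy) (inv_mem hx)) (inv_mem hy)
    have hpw : ∀ j : ℕ, x ^ j * y * (x ^ j)⁻¹ = w ^ j * y := by
      intro j
      induction j with
      | zero => simp
      | succ j ih =>
        have hc : x * w ^ j = w ^ j * x := (Commute.pow_left (hcen x hx y hy x hx : Commute w x) j).eq.symm
        calc x ^ (j + 1) * y * (x ^ (j + 1))⁻¹ = x * (x ^ j * y * (x ^ j)⁻¹) * x⁻¹ := by
              rw [pow_succ']; group
          _ = x * w ^ j * y * x⁻¹ := by rw [ih]; group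
          _ = w ^ j * (x * y * x⁻¹ * y⁻¹) * y := by rw [hc]; group
          _ = w ^ (j + 1) * y := by rw [pow_succ]
    have h1 := hpw (orderOf x)
    rw [pow_orderOf_eq_one, one_mul, inv_one, mul_one] at h1
    have h2 : w ^ orderOf x = 1 := mul_eq_right.mp h1.symm
    have h3 : w = 1 := by
      rw [← orderOf_eq_one_iff]
      exact Nat.eq_one_of_dvd_coprimes ((hp.coprime_iff_not_dvd.mpr hxo).symm.pow_right k)
        (orderOf_dvd_of_pow_eq_one h2) (orderOf_dvd_of_pow_eq_one hk)
    have h4 : x * y = (x * y * x⁻¹ * y⁻¹) * (y * x) := by group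
    rw [h4, ← hw, h3, one_mul]
  let A : Subgroup G := Subgroup.closure S
  have hAD : A ≤ D := (Subgroup.closure_le _).mpr fun x hx => hx.1
  have hab : ∀ a ∈ A, ∀ b ∈ A, a * b = b * a := by
    have h1 : A ≤ Subgroup.centralizer (A : Set G) := by
      rw [Subgroup.centralizer_closure, Subgroup.closure_le]
      exact fun x hx => Subgroup.mem_centralizer_iff.mpr fun y hy => hcomm y hy x hx
    exact fun a ha b hb => (Subgroup.mem_centralizer_iff.mp (h1 ha) b hb).symm
  refine ⟨A, hAD, ⟨hab, ?_⟩, ?_⟩
  · intro a ha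
    induction ha using Subgroup.closure_induction with
    | mem x hx => exact hx.2
    | one => rw [orderOf_one]; exact hp.not_dvd_one
    | mul x y hx hy ihx ihy =>
      intro h
      have h1 := h.trans (((Commute.orderOf_mul_dvd_lcm (hab x hx y hy : Commute x y))).trans
        (Nat.lcm_dvd_mul _ _))
      exact (hp.dvd_mul.mp h1).elim ihx ihy
    | inv x _ ih => rwa [orderOf_inv]
  · have hdvd : Nat.card D ∣ Nat.card A * p ^ m := by
      rw [← Nat.factorization_le_iff_dvd Nat.card_pos.ne' (mul_ne_zero Nat.card_pos.ne' (pow_ne_zero _ hp.ne_zero))]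
      intro r
      rw [Nat.factorization_mul Nat.card_pos.ne' (pow_ne_zero _ hp.ne_zero), Finsupp.add_apply]
      by_cases hr : r.Prime
      · by_cases hrp : r = p
        · subst hrp
          rw [hp.factorization_pow, Finsupp.single_eq_same]
          exact le_add_left ((factorization_le_of_le (H := D)).trans hm)
        · have := Fact.mk hr
          let P : Sylow r D := default
          have hle : (P : Subgroup D).map D.subtype ≤ A := by
            rintro _ ⟨x, hx, rfl⟩
            refine Subgroup.subset_closure ⟨x.2, ?_⟩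
            obtain ⟨k, hk⟩ := P.2 ⟨x, hx⟩
            intro hd
            have h1 : orderOf ((x : D) : G) ∣ r ^ k := by
              apply orderOf_dvd_of_pow_eq_one
              have h2 := congrArg (fun z : (P : Subgroup D) => ((z : D) : G)) hk
              simpa using h2
            exact hrp ((Nat.prime_dvd_prime_iff_eq hp hr).mp (hp.dvd_of_dvd_pow (hd.trans h1))).symm
          have h1 := Subgroup.card_dvd_of_le hle
          rw [Subgroup.card_map_of_injective D.subtype_injective, P.card_eq_multiplicity] at h1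
          have h2 := (hr.pow_dvd_iff_le_factorization Nat.card_pos.ne').mp h1
          omega
      · simp [Nat.factorization_eq_zero_of_not_prime _ hr]
    rw [← Subgroup.relIndex_bot_left D, ← Subgroup.relIndex_mul_relIndex ⊥ A D bot_le hAD,
      Subgroup.relIndex_bot_left] at hdvd
    exact Nat.le_of_dvd (pow_pos hp.pos _) (Nat.dvd_of_mul_dvd_mul_left Nat.card_pos hdvd)

/-- A normal subgroup of small order is centralized by a subgroup of small index. -/
theorem index_centralizer_le (K : Subgroup G) [K.Normal] :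
    (Subgroup.centralizer (K : Set G)).index ≤ (Nat.card K).factorial := by
  classical
  have := Fintype.ofFinite K
  let f : G →* Equiv.Perm K :=
    { toFun := fun g => (MulAut.conjNormal g : MulAut K).toEquiv
      map_one' := by ext x; simp
      map_mul' := fun g h => by ext x; simp }
  have hle : f.ker ≤ Subgroup.centralizer (K : Set G) := by
    intro g hg
    rw [Subgroup.mem_centralizer_iff]
    intro x hx
    have h := congrArg (fun e : Equiv.Perm K => ((e ⟨x, hx⟩ : K) : G)) (MonoidHom.mem_ker.mp hg)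
    simp only [f, MonoidHom.coe_mk, OneHom.coe_mk, Equiv.Perm.one_apply, MulEquiv.toEquiv_eq_coe,
      MulEquiv.coe_toEquiv, MulAut.conjNormal_apply] at h
    exact (mul_inv_eq_iff_eq_mul.mp h).symm
  refine (Nat.le_of_dvd (Nat.pos_of_ne_zero Subgroup.index_ne_zero_of_finite)
    (Subgroup.index_dvd_of_le hle)).trans ?_
  rw [Subgroup.index_ker]
  refine (Nat.card_le_card_of_injective _ Subtype.val_injective).trans ?_
  rw [Nat.card_eq_fintype_card, Fintype.card_perm, Nat.card_eq_fintype_card]

end Group

variable {F : Type v} [Field F]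

/-- The reducible case. -/
theorem reducible {p : ℕ} (hp : p.Prime) [CharP F p] {n m c₀ : ℕ}
    (ih : ∀ (H : Type u) [Group H] [Finite H] (V : Type v) [AddCommGroup V] [Module F V] [FiniteDimensional F V]
      (σ : H →* (V →ₗ[F] V)), Function.Injective σ → finrank F V ≤ n → (Nat.card H).factorization p ≤ m →
      ∃ A : Subgroup H, (∀ a ∈ A, ∀ b ∈ A, a * b = b * a) ∧ A.index ≤ c₀)
    {G : Type u} [Group G] [Finite G] {V : Type v} [AddCommGroup V] [Module F V] [FiniteDimensional F V]
    (ρ : G →* (V →ₗ[F] V)) (hρ : Function.Injective ρ) (hV : finrank F V ≤ n + 1)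
    (hm : (Nat.card G).factorization p ≤ m)
    (W : Submodule F V) (hW0 : W ≠ ⊥) (hW1 : W ≠ ⊤) (hWinv : ∀ g : G, ∀ w ∈ W, ρ g w ∈ W) :
    ∃ A : Subgroup G, PAb p A ∧ A.index ≤ c₀ * c₀ * ((p ^ m).factorial * p ^ m) := by
  classical
  have := Fact.mk hp
  let φ₁ : G →* (W →ₗ[F] W) :=
    { toFun := fun g => (ρ g).restrict (hWinv g)
      map_one' := LinearMap.ext fun w => Subtype.ext (by simp)
      map_mul' := fun g h => LinearMap.ext fun w => Subtype.ext (by simp) }
  let φ₂ : G →* ((V ⧸ W) →ₗ[F] (V ⧸ W)) :=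
    { toFun := fun g => W.mapQ W (ρ g) (fun w hw => hWinv g w hw)
      map_one' := Submodule.linearMap_qext _ (LinearMap.ext fun w => by simp)
      map_mul' := fun g h => Submodule.linearMap_qext _ (LinearMap.ext fun w => by simp) }
  have hsub : ∀ {X : Type v} [AddCommGroup X] [Module F X] [FiniteDimensional F X] (φ : G →* (X →ₗ[F] X)),
      finrank F X ≤ n → ∃ B : Subgroup G, B.index ≤ c₀ ∧
        ∀ a ∈ B, ∀ b ∈ B, φ (a * b * a⁻¹ * b⁻¹) = 1 := by
    intro X _ _ _ φ hX
    let u := φ.toHomUnits
    obtain ⟨A, hA, hidx⟩ := ih (G ⧸ u.ker) X ((Units.coeHom _).comp (QuotientGroup.kerLift u))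
      (Units.val_injective.comp (QuotientGroup.kerLift_injective u)) hX
      (((Nat.factorization_le_iff_dvd Nat.card_pos.ne' Nat.card_pos.ne').mpr
        (Subgroup.card_quotient_dvd_card _) p).trans hm)
    refine ⟨A.comap (QuotientGroup.mk' u.ker),
      (A.index_comap_of_surjective (QuotientGroup.mk'_surjective _)).trans_le hidx, fun a ha b hb => ?_⟩
    have h1 : QuotientGroup.mk' u.ker (a * b * a⁻¹ * b⁻¹) = 1 := by
      rw [map_mul, map_mul, map_mul, map_inv, map_inv, hA _ ha _ hb]
      group
    exact congrArg Units.val (MonoidHom.mem_ker.mp ((QuotientGroup.eq_one_iff _).mp h1))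
  have hpos : 0 < finrank F W := Submodule.one_le_finrank_iff.mpr hW0
  have hlt : finrank F W < finrank F V := Submodule.finrank_lt hW1
  have hadd := W.finrank_quotient_add_finrank
  obtain ⟨B₁, hB₁, hB₁c⟩ := hsub φ₁ (by omega)
  obtain ⟨B₂, hB₂, hB₂c⟩ := hsub φ₂ (by omega)
  let K : Subgroup G := φ₁.ker ⊓ φ₂.ker
  have hKpow : ∀ g ∈ K, g ^ p = 1 := by
    rintro g ⟨hg1, hg2⟩
    apply hρ
    have hN : ∀ x : V, ρ g x - x ∈ W := fun x => by
      have h := LinearMap.congr_fun (MonoidHom.mem_ker.mp hg2) (Submodule.Quotient.mk x)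
      rw [Module.End.one_apply] at h
      exact (Submodule.Quotient.eq W).mp h
    have hfix : ∀ w ∈ W, ρ g w = w := fun w hw =>
      congrArg Subtype.val (LinearMap.congr_fun (MonoidHom.mem_ker.mp hg1) ⟨w, hw⟩)
    have hpw : ∀ (j : ℕ) (x : V), (ρ g ^ j) x = x + j • (ρ g x - x) := by
      intro j
      induction j with
      | zero => intro x; simp
      | succ j ihj =>
        intro x
        rw [pow_succ', Module.End.mul_apply, ihj, map_add, map_nsmul, hfix _ (hN x), succ_nsmul]
        abel
    rw [map_pow, map_one]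
    refine LinearMap.ext fun x => ?_
    rw [hpw, Module.End.one_apply, add_eq_left, ← Nat.cast_smul_eq_nsmul F, CharP.cast_eq_zero F p, zero_smul]
  have hKp : IsPGroup p K := fun g => ⟨1, Subtype.ext (by rw [pow_one]; exact hKpow g g.2)⟩
  have hKcard : Nat.card K ≤ p ^ m := by
    obtain ⟨a, ha⟩ := hKp.exists_card_eq
    rw [ha]
    refine Nat.pow_le_pow_right hp.pos ?_
    have h1 := (factorization_le_of_le (H := K) (p := p)).trans hm
    rwa [ha, hp.factorization_pow, Finsupp.single_eq_same] at h1
  let D : Subgroup G := (B₁ ⊓ B₂) ⊓ Subgroup.centralizer (K : Set G)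
  have hDK : ∀ x ∈ D, ∀ y ∈ D, x * y * x⁻¹ * y⁻¹ ∈ K := fun x hx y hy =>
    ⟨hB₁c x hx.1.1 y hy.1.1, hB₂c x hx.1.2 y hy.1.2⟩
  obtain ⟨A, hAD, hA, hAidx⟩ := exists_pprime_abelian hp D
    (fun x hx y hy z hz => Subgroup.mem_centralizer_iff.mp hz.2 _ (hDK x hx y hy))
    (fun x hx y hy => ⟨1, by rw [pow_one]; exact hKpow _ (hDK x hx y hy)⟩) hm
  refine ⟨A, hA, ?_⟩
  have hDidx : D.index ≤ c₀ * c₀ * (p ^ m).factorial :=
    (Subgroup.index_inf_le).trans (Nat.mul_le_mul ((Subgroup.index_inf_le).trans (Nat.mul_le_mul hB₁ hB₂))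
      ((index_centralizer_le K).trans (Nat.factorial_le hKcard)))
  rw [← Subgroup.relIndex_mul_index hAD, mul_comm, ← mul_assoc]
  exact Nat.mul_le_mul hDidx hAidx

variable {G : Type u} [Group G] {V : Type v} [AddCommGroup V] [Module F V]

/-- Commuting operators have a common eigenvector in every invariant subspace. -/
theorem exists_common_eigvec [IsAlgClosed F] [FiniteDimensional F V] (ρ : G →* (V →ₗ[F] V)) (U : Subgroup G)
    (hab : ∀ a ∈ U, ∀ b ∈ U, a * b = b * a) (W : Submodule F V) (hW : W ≠ ⊥)
    (hinv : ∀ u ∈ U, ∀ w ∈ W, ρ u w ∈ W) :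
    ∃ v ∈ W, v ≠ 0 ∧ ∀ u ∈ U, ∃ μ : F, ρ u v = μ • v := by
  induction h : finrank F W using Nat.strong_induction_on generalizing W with
  | _ k ih =>
    subst h
    by_cases hall : ∀ u ∈ U, ∃ μ : F, ∀ w ∈ W, ρ u w = μ • w
    · obtain ⟨v, hv, hv0⟩ := Submodule.exists_mem_ne_zero_of_ne_bot hW
      exact ⟨v, hv, hv0, fun u hu => (hall u hu).imp fun μ h => h v hv⟩
    push Not at hall
    obtain ⟨a, ha, hne⟩ := hall
    have : Nontrivial W := Submodule.nontrivial_iff_ne_bot.mpr hW
    obtain ⟨μ, hμ⟩ := Module.End.exists_eigenvalue ((ρ a).restrict (hinv a ha))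
    obtain ⟨⟨v, hv⟩, hvμ, hv0⟩ := hμ.exists_hasEigenvector
    rw [Module.End.mem_eigenspace_iff] at hvμ
    have hvμ' : ρ a v = μ • v := congrArg Subtype.val hvμ
    let W' : Submodule F V := W ⊓ LinearMap.ker (ρ a - μ • (1 : V →ₗ[F] V))
    have hmem : ∀ x, x ∈ W' ↔ x ∈ W ∧ ρ a x = μ • x := fun x => by
      simp [W', sub_eq_zero]
    have hlt : W' < W := by
      refine lt_of_le_of_ne inf_le_left fun e => ?_
      obtain ⟨w, hw, hw'⟩ := hne μ
      exact hw' ((hmem w).mp (e.symm ▸ hw)).2
    have hv' : v ∈ W' := (hmem v).mpr ⟨hv, hvμ'⟩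
    obtain ⟨w, hw, hw0, hwu⟩ := ih _ (Submodule.finrank_lt_finrank_of_lt hlt) W'
      (fun e => hv0 (Subtype.ext (by simpa [e] using hv')))
      (fun u hu x hx => by
        rw [hmem] at hx ⊢
        refine ⟨hinv u hu x hx.1, ?_⟩
        rw [← Module.End.mul_apply, ← map_mul, hab a ha u hu, map_mul, Module.End.mul_apply, hx.2, map_smul])
      rfl
    exact ⟨w, ((hmem w).mp hw).1, hw0, hwu⟩

/-- Eigenvectors for distinct weights are independent. -/
theorem weights_independent (ρ : G →* (V →ₗ[F] V)) (U : Subgroup G) {ι : Type*} (lam : ι → U → F)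
    (hinj : Function.Injective lam) (v : ι → V) (hv : ∀ i, v i ≠ 0)
    (heig : ∀ i (u : U), ρ (u : G) (v i) = lam i u • v i) : LinearIndependent F v := by
  classical
  rw [linearIndependent_iff']
  intro s
  induction s using Finset.induction_on with
  | empty => simp
  | insert i s his ih =>
    intro g hg
    have hzero : ∀ j ∈ s, g j = 0 := by
      intro j hj
      have hne : lam j ≠ lam i := fun e => his (hinj e ▸ hj)
      obtain ⟨u, hu⟩ := Function.ne_iff.mp hne
      have h1 := congrArg (ρ (u : G)) hg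
      rw [map_sum, map_zero] at h1
      have h2 : ∑ k ∈ insert i s, (g k * lam k u - lam i u * g k) • v k = 0 := by
        simp only [sub_smul, Finset.sum_sub_distrib, mul_smul, ← Finset.smul_sum, hg, smul_zero, sub_zero]
        rw [← h1]
        exact Finset.sum_congr rfl fun k _ => by rw [map_smul, heig k u]
      rw [Finset.sum_insert his, mul_comm (lam i u), sub_self, zero_smul, zero_add] at h2
      have h3 := ih _ h2 j hj
      rw [mul_comm (lam i u), ← mul_sub, mul_eq_zero] at h3
      exact h3.resolve_right (sub_ne_zero.mpr hu)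
    intro j hj
    rcases Finset.mem_insert.mp hj with rfl | hj
    · rw [Finset.sum_insert his, Finset.sum_eq_zero (fun k hk => by rw [hzero k hk, zero_smul]), add_zero] at hg
      exact (smul_eq_zero.mp hg).resolve_right (hv j)
    · exact hzero j hj

/-- The automizer of an abelian subgroup of order prime to `p`. -/
theorem autom_le [Finite G] [IsAlgClosed F] [FiniteDimensional F V] {p : ℕ} [CharP F p]
    (ρ : G →* (V →ₗ[F] V)) (hρ : Function.Injective ρ) (U : Subgroup G) (hU : PAb p U) :
    (Subgroup.centralizer (U : Set G)).relIndex (Subgroup.normalizer (U : Set G)) ≤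
      (finrank F V).factorial := by
  classical
  let Wt : Type (max u v) := {l : U → F // ∃ v : V, v ≠ 0 ∧ ∀ u : U, ρ (u : G) v = l u • v}
  let vec : Wt → V := fun l => l.2.choose
  have hli : LinearIndependent F vec :=
    weights_independent ρ U (fun l : Wt => l.1) Subtype.val_injective vec (fun l => l.2.choose_spec.1)
      (fun l => l.2.choose_spec.2)
  have := hli.finite
  have := Fintype.ofFinite Wt
  have hcard := hli.fintype_card_le_finrank
  let N : Subgroup G := Subgroup.normalizer (U : Set G)
  let cj : N → U → U := fun g u => ⟨(g : G)⁻¹ * u * g, by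
    simpa using (Subgroup.mem_normalizer_iff.mp (inv_mem g.2) u).mp u.2⟩
  have hmove : ∀ (g : N) (l : Wt), ∃ v : V, v ≠ 0 ∧ ∀ u : U, ρ (u : G) v = l.1 (cj g u) • v := by
    intro g l
    obtain ⟨v, hv, he⟩ := l.2
    refine ⟨ρ (g : G) v, fun h => hv ?_, fun u => ?_⟩
    · have h1 := congrArg (ρ (g : G)⁻¹) h
      rwa [← Module.End.mul_apply, ← map_mul, inv_mul_cancel, map_one, Module.End.one_apply, map_zero] at h1
    · rw [← Module.End.mul_apply, ← map_mul, ← map_smul, ← he (cj g u), ← Module.End.mul_apply, ← map_mul]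
      simp [cj, mul_assoc]
  letI : MulAction N Wt :=
    { smul := fun g l => ⟨fun u => l.1 (cj g u), hmove g l⟩
      one_smul := fun l => Subtype.ext (funext fun u => congrArg l.1 (Subtype.ext (by simp [cj])))
      mul_smul := fun g h l => Subtype.ext (funext fun u => congrArg l.1 (Subtype.ext (by simp [cj, mul_assoc]))) }
  have hker : (MulAction.toPermHom N Wt).ker ≤ (Subgroup.centralizer (U : Set G)).subgroupOf N := by
    intro g hg
    rw [Subgroup.mem_subgroupOf, Subgroup.mem_centralizer_iff]
    intro u hu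
    have hx : (g : G)⁻¹ * u * g * u⁻¹ = 1 := by
      by_contra hne
      set x : U := cj g ⟨u, hu⟩ * ⟨u, hu⟩⁻¹ with hxdef
      have hx1 : (x : G) ≠ 1 := hne
      have ho : ((orderOf (x : G) : ℕ) : F) ≠ 0 := fun h => hU.2 _ x.2 ((CharP.cast_eq_zero_iff F p _).mp h)
      let S : V →ₗ[F] V := ∑ i ∈ Finset.range (orderOf (x : G)), ρ (x : G) ^ i
      have hS : S * (ρ (x : G) - 1) = 0 := by
        rw [geom_sum_mul, ← map_pow, pow_orderOf_eq_one, map_one, sub_self]
      have hS0 : LinearMap.ker S ≠ ⊥ := by
        intro hk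
        refine hx1 (hρ ?_)
        rw [map_one, ← sub_eq_zero]
        refine LinearMap.ext fun w => LinearMap.ker_eq_bot.mp hk ?_
        rw [LinearMap.zero_apply, map_zero]
        exact LinearMap.congr_fun hS w
      obtain ⟨v, hv, hv0, hev⟩ := exists_common_eigvec ρ U hU.1 (LinearMap.ker S) hS0 fun a ha w hw => by
        rw [LinearMap.mem_ker] at hw ⊢
        have hc : Commute (ρ a) S := Commute.sum_right _ _ _ fun i _ =>
          ((show Commute a (x : G) from hU.1 a ha x x.2).map ρ).pow_right i
        rw [← Module.End.mul_apply, ← hc.eq, Module.End.mul_apply, hw, map_zero]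
      choose μ hμ using hev
      let l : Wt := ⟨fun a => μ a a.2, v, hv0, fun a => hμ a a.2⟩
      have hmul : ∀ a b : U, l.1 (a * b) = l.1 a * l.1 b := fun a b => by
        refine smul_left_injective F hv0 ?_
        show μ (a * b : U) _ • v = (μ a a.2 * μ b b.2) • v
        rw [← hμ, Subgroup.coe_mul, map_mul, Module.End.mul_apply, hμ b b.2, map_smul, hμ a a.2, smul_smul, mul_comm]
      have hfix : l.1 (cj g ⟨u, hu⟩) = l.1 ⟨u, hu⟩ :=
        congrFun (congrArg Subtype.val (Equiv.Perm.ext_iff.mp (MonoidHom.mem_ker.mp hg) l)) ⟨u, hu⟩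
      have hone : l.1 x = 1 := by
        have h1 : l.1 (1 : U) = 1 := by
          refine smul_left_injective F hv0 ?_
          show μ (1 : U) _ • v = (1 : F) • v
          rw [← hμ, OneMemClass.coe_one, map_one, Module.End.one_apply, one_smul]
        rw [hxdef, hmul, hfix, ← hmul, mul_inv_cancel, h1]
      have hSv : S v = (orderOf (x : G) : F) • v := by
        have hxv : ∀ i : ℕ, (ρ (x : G) ^ i) v = v := by
          intro i
          induction i with
          | zero => simp
          | succ i ihi =>
            rw [pow_succ, Module.End.mul_apply, hμ x x.2, show μ x x.2 = 1 from hone, one_smul, ihi]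
        rw [LinearMap.sum_apply, Finset.sum_congr rfl fun i _ => hxv i, Finset.sum_const, Finset.card_range,
          Nat.cast_smul_eq_nsmul]
      rw [LinearMap.mem_ker.mp hv] at hSv
      exact hv0 ((smul_eq_zero.mp hSv.symm).resolve_left ho)
    calc u * (g : G) = (g : G) * ((g : G)⁻¹ * u * g * u⁻¹) * u := by group
      _ = (g : G) * u := by rw [hx, mul_one]
  show ((Subgroup.centralizer (U : Set G)).subgroupOf N).index ≤ _
  refine (Nat.le_of_dvd (Nat.pos_of_ne_zero Subgroup.index_ne_zero_of_finite)
    (Subgroup.index_dvd_of_le hker)).trans ?_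
  rw [Subgroup.index_ker]
  refine (Nat.card_le_card_of_injective _ Subtype.val_injective).trans ?_
  rw [Nat.card_eq_fintype_card, Fintype.card_perm]
  exact Nat.factorial_le hcard

/-- The theorem over an algebraically closed field. -/
theorem main (p : ℕ) (hp : p.Prime) (m n : ℕ) : ∃ c : ℕ, ∀ (G : Type u) [Group G] [Finite G]
    (F : Type v) [Field F] [IsAlgClosed F] [CharP F p] (V : Type v) [AddCommGroup V] [Module F V]
    [FiniteDimensional F V] (ρ : G →* (V →ₗ[F] V)), Function.Injective ρ → finrank F V ≤ n →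
      (Nat.card G).factorization p ≤ m →
      ∃ A : Subgroup G, (∀ a ∈ A, ∀ b ∈ A, a * b = b * a) ∧ A.index ≤ c := by
  induction n with
  | zero =>
    refine ⟨1, fun G _ _ F _ _ _ V _ _ _ ρ hρ hV _ => ⟨⊤, fun a _ b _ => hρ ?_, by rw [Subgroup.index_top]⟩⟩
    have : Subsingleton V := (Module.finrank_zero_iff (R := F)).mp (Nat.le_zero.mp hV)
    exact LinearMap.ext fun x => Subsingleton.elim _ _
  | succ n ih =>
    obtain ⟨c₀, ih⟩ := ih
    set c₁ := c₀ * c₀ * ((p ^ m).factorial * p ^ m) with hc₁
    refine ⟨c₁ + 1 + bound (c₁ + 1) ((n + 1) * (n + 1)) (n + 1).factorial (n + 1),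
      fun G _ _ F _ _ _ V _ _ _ ρ hρ hV hm => ?_⟩
    classical
    have ih' : ∀ (H : Type u) [Group H] [Finite H] (V : Type v) [AddCommGroup V] [Module F V]
        [FiniteDimensional F V] (σ : H →* (V →ₗ[F] V)), Function.Injective σ → finrank F V ≤ n →
        (Nat.card H).factorization p ≤ m →
        ∃ A : Subgroup H, (∀ a ∈ A, ∀ b ∈ A, a * b = b * a) ∧ A.index ≤ c₀ :=
      fun H _ _ V _ _ _ σ => ih H F V σ
    by_cases hirr : ∀ W : Submodule F V, (∀ g : G, ∀ w ∈ W, ρ g w ∈ W) → W = ⊥ ∨ W = ⊤
    swap
    · push Not at hirr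
      obtain ⟨W, hWinv, hW0, hW1⟩ := hirr
      obtain ⟨A, hA, hidx⟩ := reducible hp ih' ρ hρ hV hm W hW0 hW1 hWinv
      exact ⟨A, hA.1, hidx.trans (by omega)⟩
    rcases subsingleton_or_nontrivial V with hV0 | hV0
    · exact ⟨⊤, fun a _ b _ => hρ (LinearMap.ext fun x => Subsingleton.elim _ _),
        by rw [Subgroup.index_top]; omega⟩
    have hscalar : ∀ z ∈ Subgroup.center G, ∃ μ : F, ρ z = μ • (1 : V →ₗ[F] V) := by
      intro z hz
      obtain ⟨μ, hμ⟩ := Module.End.exists_eigenvalue (ρ z)
      obtain ⟨v, hv, hv0⟩ := hμ.exists_hasEigenvector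
      rcases hirr (Module.End.eigenspace (ρ z) μ) (fun g w hw => by
        rw [Module.End.mem_eigenspace_iff] at hw ⊢
        rw [← Module.End.mul_apply, ← map_mul, ← Subgroup.mem_center_iff.mp hz g, map_mul, Module.End.mul_apply,
          hw, map_smul]) with h | h
      · exact absurd ((Submodule.eq_bot_iff _).mp h v hv) hv0
      · refine ⟨μ, LinearMap.ext fun x => ?_⟩
        have hx : x ∈ Module.End.eigenspace (ρ z) μ := h ▸ Submodule.mem_top
        rw [Module.End.mem_eigenspace_iff] at hx
        simpa using hx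
    have hs : Setup p G (c₁ + 1) ((n + 1) * (n + 1)) (n + 1).factorial (n + 1) := by
      refine ⟨by omega, fun y hy => ?_, ⟨fun B => finrank F
          (⨅ b : B, LinearMap.ker (LinearMap.mulLeft F (ρ (b : G)) - LinearMap.mulRight F (ρ (b : G)))
            : Submodule F (V →ₗ[F] V)), fun B => ?_, fun B₀ B hle hne => ?_⟩, fun U hU => ?_, fun y => ?_⟩
      · obtain ⟨μ, hμ⟩ := Module.End.exists_eigenvalue (ρ y)
        obtain ⟨v, hv, hv0⟩ := hμ.exists_hasEigenvector
        have hW0 : Module.End.eigenspace (ρ y) μ ≠ ⊥ := fun h => hv0 ((Submodule.eq_bot_iff _).mp h v hv)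
        have hW1 : Module.End.eigenspace (ρ y) μ ≠ ⊤ := by
          intro h
          refine hy (Subgroup.mem_center_iff.mpr fun g => hρ (LinearMap.ext fun x => ?_))
          have hall : ∀ w, ρ y w = μ • w := fun w =>
            Module.End.mem_eigenspace_iff.mp (h ▸ Submodule.mem_top)
          rw [map_mul, map_mul, Module.End.mul_apply, Module.End.mul_apply, hall, hall, map_smul]
        obtain ⟨A, hA, hidx⟩ := reducible hp ih' (ρ.comp (Subgroup.centralizer {y}).subtype)
          (hρ.comp Subtype.val_injective) hV ((factorization_le_of_le).trans hm) _ hW0 hW1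
          (fun g w hw => by
            rw [Module.End.mem_eigenspace_iff] at hw ⊢
            show ρ y (ρ (g : G) w) = μ • ρ (g : G) w
            rw [← Module.End.mul_apply, ← map_mul, ← Subgroup.mem_centralizer_singleton_iff.mp g.2, map_mul,
              Module.End.mul_apply, hw, map_smul])
        refine ⟨A.map (Subgroup.centralizer {y}).subtype, Subgroup.map_subtype_le A, ⟨?_, ?_⟩, ?_⟩
        · rintro _ ⟨a, ha, rfl⟩ _ ⟨b, hb, rfl⟩
          rw [← map_mul, ← map_mul, hA.1 a ha b hb]
        · rintro _ ⟨a, ha, rfl⟩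
          rw [orderOf_injective _ Subtype.val_injective]
          exact hA.2 a ha
        · rw [Subgroup.relIndex, show (A.map (Subgroup.centralizer {y}).subtype).subgroupOf
            (Subgroup.centralizer {y}) = A from Subgroup.comap_map_eq_self_of_injective Subtype.val_injective A]
          omega
      · refine (Submodule.finrank_le _).trans ?_
        rw [Module.finrank_linearMap]
        exact Nat.mul_le_mul hV hV
      · have hmem : ∀ (B : Subgroup G) (f : V →ₗ[F] V),
            f ∈ (⨅ b : B, LinearMap.ker (LinearMap.mulLeft F (ρ (b : G)) - LinearMap.mulRight F (ρ (b : G)))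
              : Submodule F (V →ₗ[F] V)) ↔ ∀ b ∈ B, ρ b * f = f * ρ b := fun B f => by
          simp [sub_eq_zero]
        refine Submodule.finrank_lt_finrank_of_lt (lt_of_le_of_ne ?_ fun e => hne ?_)
        · intro f hf
          rw [hmem] at hf ⊢
          exact fun b hb => hf b (hle hb)
        · ext g
          rw [Subgroup.mem_centralizer_iff, Subgroup.mem_centralizer_iff]
          refine ⟨fun h b hb => ?_, fun h b hb => h b (hle hb)⟩
          have h1 : ρ g ∈ (⨅ b : B, LinearMap.ker (LinearMap.mulLeft F (ρ (b : G)) -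
              LinearMap.mulRight F (ρ (b : G))) : Submodule F (V →ₗ[F] V)) := by
            rw [e, hmem]
            intro b hb
            rw [← map_mul, ← map_mul, h b hb]
          have h2 := (hmem B _).mp h1 b hb
          rw [← map_mul, ← map_mul] at h2
          exact hρ h2
      · exact (autom_le ρ hρ U hU).trans (Nat.factorial_le hV)
      · have hd0 : 0 < finrank F V := Module.finrank_pos
        have := Fintype.ofFinite {z : Subgroup.center G // IsConj y (y * (z : G))}
        choose μ hμ using hscalar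
        let f : {z : Subgroup.center G // IsConj y (y * (z : G))} → F := fun z => μ z.1 z.1.2
        have hroot : ∀ z, f z ^ finrank F V = 1 := by
          intro z
          obtain ⟨g, hg⟩ := isConj_iff.mp z.2
          have hdy : LinearMap.det (ρ y) ≠ 0 := fun h => by
            have h1 : LinearMap.det (ρ y * ρ y⁻¹) = 1 := by rw [← map_mul, mul_inv_cancel, map_one, map_one]
            rw [map_mul, h, zero_mul] at h1
            exact zero_ne_one h1
          have hdg : LinearMap.det (ρ g) * LinearMap.det (ρ g⁻¹) = 1 := by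
            rw [← map_mul, ← map_mul, mul_inv_cancel, map_one, map_one]
          have h1 := congrArg (fun x => LinearMap.det (ρ x)) hg
          simp only [map_mul, hμ _ z.1.2, LinearMap.det_smul, map_one, mul_one] at h1
          rw [mul_right_comm, hdg, one_mul] at h1
          exact mul_left_cancel₀ hdy (by rw [mul_one]; exact h1.symm)
        have hinj : Function.Injective f := fun z z' h => Subtype.ext (Subtype.ext (hρ (by
          rw [hμ _ z.1.2, hμ _ z'.1.2]
          exact congrArg (fun a => a • (1 : V →ₗ[F] V)) h)))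
        rw [Nat.card_eq_fintype_card, ← Finset.card_univ, ← Finset.card_image_of_injective _ hinj]
        refine ((Finset.card_le_card (t := (Polynomial.nthRoots (finrank F V) (1 : F)).toFinset)
          fun a ha => ?_).trans (Multiset.toFinset_card_le _)).trans
          ((Polynomial.card_nthRoots _ _).trans hV)
        obtain ⟨z, -, rfl⟩ := Finset.mem_image.mp ha
        rw [Multiset.mem_toFinset, Polynomial.mem_nthRoots hd0]
        exact hroot z
    obtain ⟨A, hA, hidx⟩ := hs.exists_abelian hp
    exact ⟨A, hA, hidx.trans (by omega)⟩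

/-- An abelian subgroup gives an abelian normal subgroup of bounded index. -/
theorem exists_normal_abelian {G : Type u} [Group G] [Finite G] (A : Subgroup G)
    (hA : ∀ a ∈ A, ∀ b ∈ A, a * b = b * a) :
    ∃ N : Subgroup G, N.Normal ∧ IsMulCommutative N ∧ N.index ≤ A.index.factorial := by
  classical
  refine ⟨A.normalCore, inferInstance, ⟨⟨fun a b => Subtype.ext
    (hA a (A.normalCore_le a.2) b (A.normalCore_le b.2))⟩⟩, ?_⟩
  have := Fintype.ofFinite (G ⧸ A)
  rw [Subgroup.normalCore_eq_ker, Subgroup.index_ker]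
  refine (Nat.card_le_card_of_injective _ Subtype.val_injective).trans ?_
  rw [Nat.card_eq_fintype_card, Fintype.card_perm, ← Nat.card_eq_fintype_card]
  rfl

/-- The theorem over any field of characteristic `p`. -/
theorem exists_bound (p : ℕ) (hp : p.Prime) : ∃ f : ℕ → ℕ → ℕ, ∀ (G : Type u) [Group G] [Finite G]
    (F : Type v) [Field F] [CharP F p] (n : ℕ) (ρ : G →* ((Fin n → F) →ₗ[F] (Fin n → F))),
    Function.Injective ρ → ∀ m : ℕ, (Nat.card G).factorization p = m →
      ∃ A : Subgroup G, A.Normal ∧ IsMulCommutative A ∧ A.index < f m n := by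
  choose c hc using fun m n => main.{u, v} p hp m n
  refine ⟨fun m n => (c m n).factorial + 1, fun G _ _ F _ _ n ρ hρ m hm => ?_⟩
  classical
  let K := AlgebraicClosure F
  have : CharP K p := charP_of_injective_algebraMap (algebraMap F K).injective p
  let σ : G →* ((Fin n → K) →ₗ[K] (Fin n → K)) :=
    (Matrix.toLinAlgEquiv' (R := K) (n := Fin n)).toAlgHom.toRingHom.toMonoidHom.comp
      (((algebraMap F K).mapMatrix (m := Fin n)).toMonoidHom.comp
        ((LinearMap.toMatrixAlgEquiv' (R := F) (n := Fin n)).toAlgHom.toRingHom.toMonoidHom.comp ρ))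
  have hσ : Function.Injective σ :=
    (Matrix.toLinAlgEquiv' (R := K) (n := Fin n)).injective.comp
      ((Matrix.map_injective (algebraMap F K).injective).comp
        ((LinearMap.toMatrixAlgEquiv' (R := F) (n := Fin n)).injective.comp hρ))
  obtain ⟨A, hA, hidx⟩ := hc m n G K (Fin n → K) σ hσ (by rw [Module.finrank_pi, Fintype.card_fin]) hm.le
  obtain ⟨N, hN, hNc, hNi⟩ := exists_normal_abelian A hA
  exact ⟨N, hN, hNc, Nat.lt_succ_of_le (hNi.trans (Nat.factorial_le hidx))⟩

end CfsgLib.Char.BrauerFeit
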